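import Cfsg.Agent.H6.OreM.Main
import Cfsg.Agent.H455.OreM.Loc
import Cfsg.Agent.H58.Mon.Fin

/-!
# Row M of S2443 (helper6): every element of the Monster is a commutator
-/

set_option autoImplicit false

namespace Cfsg.Agent.H6.OreM

open Cfsg Cfsg.Agent.H777.Ore Cfsg.Agent.BpSpor.MBigModel
open Subgroup (zpowers centralizer)

/-- **Every element of the Monster is a commutator** (the model). -/
theorem allC_MG (B : H940.Eng.Base) : AllC MG :=
  allC_of (H455.OreM.Deg19.loc B) fun hq h5 hx =>
    (H58.MonFin.hB (H438.Fpr.Mon.allKnown B) (H715.Mon.Grp.sThree B) hq h5 hx).trans (by norm_num)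

/-- **Row M.** -/
theorem ore_M (B : H940.Eng.Base) {S : Type*} [Group S] (h : Spor.IsoM S) : AllC S := row_of (allC_MG B) h

end Cfsg.Agent.H6.OreM
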