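import Cfsg.Agent.H6.OreM.Row
import Cfsg.Agent.H935.OreO8.Main
import Cfsg.Agent.H740.OreM.CaseT
import Cfsg.Agent.MonsterP.Equiv

/-!
# Row M of S2443 (helper6): the Monster, modulo the sieve and the elements of odd order
-/

set_option autoImplicit false

namespace Cfsg.Agent.H6.OreM

open Cfsg Cfsg.Agent.H777.Ore Cfsg.Agent.BpSpor.MBigModel
open Subgroup (zpowers centralizer)

/-- **MP5** -/
theorem two_M (g : MG) (hg : ∃ k : ℕ, orderOf g = 2 ^ k) : IsC g :=
  Two.two_M_of (fun l hl => H935.OreO8.oreO8 l hl) g hg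

/-- the Monster model from the sieve (bound `K`) and the elements of odd order -/
theorem all_of_sieve {K : ℕ} (hK : 774741019852800 ≤ K)
    (hB : ∀ {x : MG} {q : ℕ}, q.Prime → 5 ≤ q → orderOf x = q → Nat.card (centralizer ({x} : Set MG)) ≤ K)
    (hS : ∀ g : MG, Nat.card (centralizer ({g} : Set MG)) ≤ K → IsC g)
    (hodd : ∀ g : MG, Odd (orderOf g) → IsC g) : AllC MG :=
  Row.all_of hodd two_M
    (fun g hz h2 => H979.Ore.CaseZ.case_z (fun g' hg' => hS g' (hg'.trans (le_trans (by norm_num) hK))) g hz h2)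
    (fun v g hv hvg h2 => H740.OreM.case_t hK hB hS v g hv hvg h2)

/-- the row of the frame -/
theorem row_of (h : AllC MG) {S : Type*} [Group S] (hS : Spor.IsoM S) : AllC S := by
  obtain ⟨e⟩ := MonsterP.Equiv.equiv
  obtain ⟨f⟩ := hS
  exact AllC.congr (e.symm.trans f.symm) h

end Cfsg.Agent.H6.OreM
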