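import Cfsg.Agent.H6.OreM.Fin
import Cfsg.Agent.H562.OreM.Odd
import Cfsg.Agent.H740.OreM.ThreeAll
import Cfsg.Agent.H606.OreM.Sieve

/-!
# Row M of S2443 (helper6): every element of the Monster is a commutator
-/

set_option autoImplicit false

namespace Cfsg.Agent.H6.OreM

open Cfsg Cfsg.Agent.H777.Ore Cfsg.Agent.BpSpor.MBigModel
open Subgroup (zpowers centralizer)

/-- the model, from the local data of the sieve and the bound for the elements of prime order at least 5 -/
theorem allC_of (L : H455.OreM.Deg19.Loc)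
    (hB : ∀ {x : MG} {q : ℕ}, q.Prime → 5 ≤ q → orderOf x = q →
      Nat.card (centralizer ({x} : Set MG)) ≤ 85479523475148372) : AllC MG :=
  all_of_sieve (K := H606.OreM.KM) (by unfold H606.OreM.KM; norm_num) (fun hq h5 hx => hB hq h5 hx)
    (H606.OreM.sieve L)
    (fun g ho => by
      have := finite
      exact H562.OreM.Odd.odd_of (K := H606.OreM.KM) (fun g hg => H740.OreM.ThreeAll.three_all hg)
        (fun q hq h5 x hx => hB hq h5 hx) (H606.OreM.sieve L) ho)

/-- **Row M.** -/
theorem ore_M_of (L : H455.OreM.Deg19.Loc)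
    (hB : ∀ {x : MG} {q : ℕ}, q.Prime → 5 ≤ q → orderOf x = q →
      Nat.card (centralizer ({x} : Set MG)) ≤ 85479523475148372) {S : Type*} [Group S] (h : Spor.IsoM S) : AllC S :=
  row_of (allC_of L hB) h

end Cfsg.Agent.H6.OreM
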