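import Cfsg.Agent.H6.OreM.Two
import Cfsg.Agent.H979.Ore.CaseZ

/-!
# Row M of S2443: assembly (helper6)
-/

set_option autoImplicit false

namespace Cfsg.Agent.H6.OreM.Row

open Cfsg Cfsg.Agent.H777.Ore Cfsg.Agent.BpSpor.MBigModel
open Subgroup (zpowers centralizer)

theorem orderOf_conj' {G : Type*} [Group G] (u g : G) : orderOf (u * g * u⁻¹) = orderOf g := by
  rw [show u * g * u⁻¹ = MulAut.conj u g from rfl, MulEquiv.orderOf_eq]

/-- the four cases -/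
theorem all_of (hodd : ∀ g : MG, Odd (orderOf g) → IsC g)
    (htwo : ∀ g : MG, (∃ k : ℕ, orderOf g = 2 ^ k) → IsC g)
    (hz : ∀ g : MG, zz ∈ zpowers g → (∀ k : ℕ, orderOf g ≠ 2 ^ k) → IsC g)
    (ht : ∀ v g : MG, LThreeB.Row.TA v → v ∈ zpowers g → (∀ k : ℕ, orderOf g ≠ 2 ^ k) → IsC g) :
    AllC MG := by
  have hfin := finite
  intro g
  by_cases h1 : Odd (orderOf g)
  · exact hodd g h1
  by_cases h2 : ∃ k : ℕ, orderOf g = 2 ^ k
  · exact htwo g h2
  have h2' : ∀ k : ℕ, orderOf g ≠ 2 ^ k := fun k hk => h2 ⟨k, hk⟩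
  rw [Nat.not_odd_iff_even, even_iff_two_dvd] at h1
  obtain ⟨m, hm⟩ := h1
  have hpos := orderOf_pos g
  have hm0 : m ≠ 0 := by
    rintro rfl
    omega
  have hv : orderOf (g ^ m) = 2 := by
    rw [orderOf_pow_of_dvd hm0 ⟨2, by rw [hm]; ring⟩, hm]
    exact Nat.mul_div_cancel 2 (Nat.pos_of_ne_zero hm0)
  have hvm : g ^ m ∈ zpowers g := Subgroup.pow_mem _ (Subgroup.mem_zpowers g) m
  rcases cls hv with ⟨u, hu⟩ | h
  · apply IsC.of_conj u⁻¹
    have e : orderOf (u⁻¹ * g * u⁻¹⁻¹) = orderOf g := orderOf_conj' _ _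
    apply hz
    · have h3 : zz = (u⁻¹ * g * u⁻¹⁻¹) ^ m := by
        rw [conj_pow, ← hu]; group
      rw [h3]
      exact Subgroup.pow_mem _ (Subgroup.mem_zpowers _) m
    · intro k
      rw [e]
      exact h2' k
  · exact ht _ g h hvm h2'

end Cfsg.Agent.H6.OreM.Row
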