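import Cfsg.Agent.BpSpor.MBigEleven
import Cfsg.Agent.H6.ORE.ChartOre
import Cfsg.Agent.H6.ORE.CoOne
import Cfsg.Agent.H777.Ore.Base

/-!
# The 2-elements of the Monster are commutators (helper6, S2443, row M, piece MP5)

`two_M` : every 2-element of the model `MG` is a commutator if every nontrivial element of `Ω⁺(8,2)` is a
commutator of two generators.
-/

set_option autoImplicit false
set_option maxRecDepth 100000

namespace Cfsg.Agent.H6.OreM.Two

open Cfsg Cfsg.Agent.H777.Ore Cfsg.Agent.BpSpor.MBigModel
open Cfsg.Agent.H6.ORE.CoOne (OreO8)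

theorem odd_index : Odd (Subgroup.centralizer ({zz} : Set MG)).index := by
  have h := Subgroup.card_mul_index (Subgroup.centralizer ({zz} : Set MG))
  rw [card_cent_z, card_M] at h
  have h1 : (Subgroup.centralizer ({zz} : Set MG)).index = 5791748068511982636944259375 := by
    have h2 : 2 ^ 25 * 4157776806543360000 * (Subgroup.centralizer ({zz} : Set MG)).index =
        2 ^ 25 * 4157776806543360000 * 5791748068511982636944259375 := by
      rw [h]; norm_num
    exact Nat.eq_of_mul_eq_mul_left (by norm_num) h2
  rw [h1]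
  decide

/-- **MP5** -/
theorem two_M_of (hO : OreO8) (g : MG) (hg : ∃ k : ℕ, orderOf g = 2 ^ k) : IsC g := by
  have := finite
  exact H6.ORE.two_of_chart chart odd_index (H6.ORE.CoOne.two_co1 hO) H6.ORE.CoOne.fix_p1 g hg

end Cfsg.Agent.H6.OreM.Two
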